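import Cfsg.Agent.H286.EPK.Z
import Cfsg.Agent.S2227

/-!
# S5745 CrossK, 2E6(2), T = A9 (and larger) (helper286)

The centralizer of an element of order 5 of `2E6(2)` is `5 × A8` (S2227).
-/

set_option autoImplicit false

namespace Cfsg.Agent.H286.EPK

theorem card_cent_five {K : Type*} [Field K] [Fintype K] (hK : Fintype.card K = 4)
    (x : ↥(Cfsg.Lie.twistedE6 K 2)) (hx : orderOf x = 5) :
    Nat.card (Subgroup.centralizer ({x} : Set ↥(Cfsg.Lie.twistedE6 K 2))) = 100800 := by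
  obtain ⟨f⟩ := (Cfsg.Agent.S2227.result hK).2 x hx
  rw [Nat.card_congr f.toEquiv, Nat.card_prod, nat_card_alternatingGroup, Nat.card_fin]
  have h : Nat.card (Multiplicative (ZMod 5)) = 5 := by
    rw [Nat.card_congr Multiplicative.toAdd, Nat.card_zmod]
  rw [h]
  decide

/-- no `T^k`, `k ≥ 2`, in `2E6(2)` with `5 ∣ |T|`, `|T| > |A8|` -/
theorem te6_two {K : Type*} [Field K] [Fintype K] (hK : Fintype.card K = 4)
    {N : Subgroup ↥(Cfsg.Lie.twistedE6 K 2)} {T : Type*} [Group T] {k : ℕ} (e : N ≃* (Fin k → T)) (hk : 2 ≤ k)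
    (h5 : 5 ∣ Nat.card T) (hT : 20160 < Nat.card T) : False := by
  refine kill_z e hk (r := 5) (by norm_num) h5 fun x hx => ?_
  rw [card_cent_five hK x hx]
  omega

theorem te6_two_alt {K : Type*} [Field K] [Fintype K] (hK : Fintype.card K = 4)
    {N : Subgroup ↥(Cfsg.Lie.twistedE6 K 2)} {T : Type*} [Group T] {k : ℕ} (e : N ≃* (Fin k → T)) (hk : 2 ≤ k)
    {n : ℕ} (hn : 9 ≤ n) (f : T ≃* alternatingGroup (Fin n)) : False := by
  have h0 : 2 * Nat.card T = Nat.factorial n := by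
    haveI : Nontrivial (Fin n) := Fin.nontrivial_iff_two_le.2 (by omega)
    rw [Nat.card_congr f.toEquiv, two_mul_nat_card_alternatingGroup, Nat.card_perm, Nat.card_fin]
  have h1 : 2 * 5 ∣ Nat.factorial n :=
    (show 2 * 5 ∣ Nat.factorial 9 by decide).trans (Nat.factorial_dvd_factorial hn)
  have h2 : Nat.factorial 9 ≤ Nat.factorial n := Nat.factorial_le hn
  have h3 : Nat.factorial 9 = 362880 := by decide
  exact te6_two hK e hk (by omega) (by omega)

end Cfsg.Agent.H286.EPK
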