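import Cfsg.Agent.H59.EP.UBFin
import Cfsg.Agent.H173.EP.LineBound

/-!
# The number of two-point stabilisers by Sylow subgroups (helper286)

`EPT A Γ`, `p ^ 2 ∤ |A|` for the primes `p ≥ 5`: the number of the groups `A ∩ A^x` is at most
`∑_{s ∣ |A|} gal s (v_s |A|) * (|A| / s ^ v_s) + |A| ^ 2 / 60`.
(Every elementary abelian `s`-subgroup lies in one of the at most `|A| / s ^ v_s` Sylow subgroups. Better than
`H59.EP.EPT.ncard_le` if `|A|_s > 6`.)
-/

set_option autoImplicit false

namespace Cfsg.Agent.H286.EPK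

open Subgroup Cfsg.Agent.H284 Cfsg.Agent.H59.EP

section Group

variable {B : Type*} [Group B]

theorem ncard_biUnion_le {ι α : Type*} [Finite α] (I : Finset ι) (S : ι → Set α) :
    (⋃ i ∈ I, S i).ncard ≤ ∑ i ∈ I, (S i).ncard := by
  classical
  induction I using Finset.induction_on with
  | empty => simp
  | insert j I hj ih =>
    rw [Finset.sum_insert hj, Finset.set_biUnion_insert]
    exact (Set.ncard_union_le _ _).trans (Nat.add_le_add_left ih _)

/-- all elementary abelian subgroups -/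
theorem ncard_elab_all [Finite B] {s : ℕ} (hs : s.Prime) :
    {X : Subgroup B | ElAb s X ∧ X ≠ ⊥}.ncard ≤
      gal s ((Nat.card B).factorization s) * (Nat.card B / s ^ (Nat.card B).factorization s) := by
  classical
  have : Fact s.Prime := ⟨hs⟩
  have := Fintype.ofFinite (Sylow s B)
  have hsub : {X : Subgroup B | ElAb s X ∧ X ≠ ⊥} ⊆
      ⋃ P ∈ (Finset.univ : Finset (Sylow s B)), {E : Subgroup B | E ≤ (P : Subgroup B) ∧ ElAb s E ∧ E ≠ ⊥} := by
    rintro X ⟨h1, h2⟩
    have hps : IsPGroup s X := by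
      rintro ⟨y, hy⟩
      refine ⟨1, Subtype.ext ?_⟩
      rw [pow_one]
      exact h1.exp y hy
    obtain ⟨R, hR⟩ := hps.exists_le_sylow
    simp only [Set.mem_iUnion]
    exact ⟨R, Finset.mem_univ _, hR, h1, h2⟩
  refine (Set.ncard_le_ncard hsub (Set.toFinite _)).trans ((ncard_biUnion_le _ _).trans ?_)
  have h1 : ∀ P ∈ (Finset.univ : Finset (Sylow s B)),
      {E : Subgroup B | E ≤ (P : Subgroup B) ∧ ElAb s E ∧ E ≠ ⊥}.ncard ≤ gal s ((Nat.card B).factorization s) :=
    fun P _ => ncard_elab_le hs P.card_eq_multiplicity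
  refine (Finset.sum_le_card_nsmul _ _ _ h1).trans ?_
  rw [smul_eq_mul, mul_comm]
  apply Nat.mul_le_mul_left
  let P : Sylow s B := default
  have h2 : Fintype.card (Sylow s B) ∣ (P : Subgroup B).index := by
    rw [← Nat.card_eq_fintype_card]
    exact Sylow.card_dvd_index P
  have h3 : (P : Subgroup B).index = Nat.card B / s ^ (Nat.card B).factorization s := by
    have h4 := (P : Subgroup B).card_mul_index
    rw [P.card_eq_multiplicity] at h4
    exact (Nat.div_eq_of_eq_mul_right (pow_pos hs.pos _) h4.symm).symm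
  rw [Finset.card_univ, ← h3]
  exact Nat.le_of_dvd (Nat.pos_of_ne_zero Subgroup.index_ne_zero_of_finite) h2

/-- **Counting theorem**, with the Sylow subgroups. -/
theorem ncard_le_sylow [Finite B] (h5 : ∀ p, p.Prime → 5 ≤ p → ¬ p ^ 2 ∣ Nat.card B)
    (hgen : ∀ X : Subgroup B, IsSimpleGroup X → ∃ a b : X, closure ({a, b} : Set X) = ⊤)
    {𝓜 : Set (Subgroup B)} (hnt : ∀ M ∈ 𝓜, M ≠ ⊥)
    (hch : ∀ M ∈ 𝓜, ∀ K : Subgroup M, K.Characteristic → K ≠ ⊥ → ∀ b : B,
      (∀ k ∈ K.map M.subtype, b * k * b⁻¹ ∈ K.map M.subtype) → b ∈ M) :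
    𝓜.ncard ≤ (∑ s ∈ (Nat.card B).primeFactors, gal s ((Nat.card B).factorization s) *
      (Nat.card B / s ^ (Nat.card B).factorization s)) + Nat.card B ^ 2 / 60 := by
  classical
  -- the minimal characteristic subgroup
  have key : ∀ M ∈ 𝓜, ∃ X : Subgroup B, normalizer (X : Set B) = M ∧
      ((∃ s ∈ (Nat.card B).primeFactors, ElAb s X ∧ X ≠ ⊥) ∨
        ((IsSimpleGroup X ∧ ¬ Group.IsSolvable X) ∧ ∃ a b : X, closure ({a, b} : Set X) = ⊤)) := by
    intro M hM
    have hMn : Nontrivial M := (Subgroup.nontrivial_iff_ne_bot M).2 (hnt M hM)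
    obtain ⟨Y, hY, hYne, hYmin⟩ := exists_min_char (B := M)
    have hYn : Nontrivial Y := (Subgroup.nontrivial_iff_ne_bot Y).2 hYne
    have hYc : ∀ Z : Subgroup Y, Z.Characteristic → Z = ⊥ ∨ Z = ⊤ := by
      intro Z hZ
      by_cases hZb : Z = ⊥
      · exact Or.inl hZb
      right
      have h1 := hYmin (Z.map Y.subtype) char_trans (by
        rintro _ ⟨z, _, rfl⟩
        exact z.2) (by
        intro e
        rw [Subgroup.map_eq_bot_iff_of_injective _ Y.subtype_injective] at e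
        exact hZb e)
      rw [Subgroup.eq_top_iff']
      intro y
      have h2 : (y : M) ∈ Z.map Y.subtype := by rw [h1]; exact y.2
      obtain ⟨z, hz, e⟩ := h2
      have : z = y := Subtype.ext e
      rw [← this]
      exact hz
    set X : Subgroup B := Y.map M.subtype with hX
    have hcard : Nat.card X = Nat.card Y :=
      (Nat.card_congr (Y.equivMapOfInjective _ M.subtype_injective).toEquiv).symm
    have e : Y ≃* X := Y.equivMapOfInjective _ M.subtype_injective
    have hXB : Nat.card Y ∣ Nat.card B := by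
      rw [← hcard]
      exact Subgroup.card_subgroup_dvd_card X
    have hXne : X ≠ ⊥ := by
      intro e
      rw [hX, Subgroup.map_eq_bot_iff_of_injective _ M.subtype_injective] at e
      exact hYne e
    refine ⟨X, ?_, ?_⟩
    · apply le_antisymm
      · intro b hb
        exact hch M hM Y hY hYne b fun k hk => (mem_normalizer_iff.1 hb k).1 hk
      · intro m hm
        have hn : Y.Normal := inferInstance
        rw [mem_normalizer_iff]
        have key : ∀ m ∈ M, ∀ k ∈ X, m * k * m⁻¹ ∈ X := by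
          rintro m hm _ ⟨k, hk, rfl⟩
          exact ⟨_, hn.conj_mem k hk ⟨m, hm⟩, rfl⟩
        intro k
        refine ⟨key m hm k, fun h => ?_⟩
        have := key m⁻¹ (M.inv_mem hm) _ h
        have e : m⁻¹ * (m * k * m⁻¹) * m⁻¹⁻¹ = k := by group
        rwa [e] at this
    · rcases char_simple hYc (fun p hp hp5 hd => h5 p hp hp5 (hd.trans hXB)) with ⟨s, hs, hsd, hel⟩ | ⟨h1, h2⟩
      · left
        refine ⟨s, Nat.mem_primeFactors.2 ⟨hs, hsd.trans hXB, Nat.card_pos.ne'⟩, ⟨?_, ?_⟩, hXne⟩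
        · rintro _ ⟨a, ha, rfl⟩ _ ⟨b, hb, rfl⟩
          have := hel.comm ⟨a, ha⟩ (mem_top _) ⟨b, hb⟩ (mem_top _)
          have h1 : a * b = b * a := Subtype.ext_iff.1 this
          rw [← map_mul, ← map_mul, h1]
        · rintro _ ⟨a, ha, rfl⟩
          have := hel.exp ⟨a, ha⟩ (mem_top _)
          have h1 : a ^ s = 1 := Subtype.ext_iff.1 this
          rw [← map_pow, h1, map_one]
      · right
        have hXs : IsSimpleGroup X := e.symm.isSimpleGroup
        refine ⟨⟨hXs, fun h => h2 ?_⟩, hgen X hXs⟩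
        exact Group.isSolvable_of_isSolvable_injective (f := e.toMonoidHom) e.injective
  choose! f hf1 hf2 using key
  have hinj : Set.InjOn f 𝓜 := by
    intro M hM N hN e
    rw [← hf1 M hM, ← hf1 N hN, e]
  rw [← hinj.ncard_image]
  have hsub : f '' 𝓜 ⊆ (⋃ s ∈ (Nat.card B).primeFactors, {X : Subgroup B | ElAb s X ∧ X ≠ ⊥}) ∪
      {X : Subgroup B | (IsSimpleGroup X ∧ ¬ Group.IsSolvable X) ∧ ∃ a b : X, closure ({a, b} : Set X) = ⊤} := by
    rintro _ ⟨M, hM, rfl⟩
    rcases hf2 M hM with ⟨s, hs, h1, h2⟩ | h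
    · left
      simp only [Set.mem_iUnion]
      exact ⟨s, hs, h1, h2⟩
    · right
      exact h
  refine (Set.ncard_le_ncard hsub (Set.toFinite _)).trans ((Set.ncard_union_le _ _).trans (Nat.add_le_add ?_ ?_))
  · refine (ncard_biUnion_le _ _).trans (Finset.sum_le_sum fun s hs => ?_)
    exact ncard_elab_all (Nat.prime_of_mem_primeFactors hs)
  · exact ncard_simple_le (fun X hX => hX.1) (fun X hX => hX.2)

end Group

section EPT

universe u

variable {Q : Type u} [Group Q] [Finite Q] {A : Subgroup Q} {Γ : Subgroup (MulAut Q)}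

/-- the number of two-point stabilisers -/
theorem EPT.ncard_le_sylow (h : EPT A Γ) (hg : TwoGen.{u})
    (h5 : ∀ p, p.Prime → 5 ≤ p → ¬ p ^ 2 ∣ Nat.card A) :
    {M : Subgroup Q | ∃ x, x ∉ A ∧ M = A ⊓ cj x A}.ncard ≤
      (∑ s ∈ (Nat.card A).primeFactors, gal s ((Nat.card A).factorization s) *
        (Nat.card A / s ^ (Nat.card A).factorization s)) + Nat.card A ^ 2 / 60 := by
  classical
  set 𝓜 : Set (Subgroup A) := {M | ∃ x, x ∉ A ∧ M = (A ⊓ cj x A).subgroupOf A} with h𝓜
  have h1 : {M : Subgroup Q | ∃ x, x ∉ A ∧ M = A ⊓ cj x A}.ncard ≤ 𝓜.ncard := by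
    refine Set.ncard_le_ncard_of_injOn (fun M => M.subgroupOf A) ?_ ?_ (Set.toFinite _)
    · rintro _ ⟨x, hx, rfl⟩
      exact ⟨x, hx, rfl⟩
    · rintro _ ⟨x, _, rfl⟩ _ ⟨y, _, rfl⟩ e
      have e1 := congrArg (Subgroup.map A.subtype) e
      simp only [Subgroup.subgroupOf_map_subtype] at e1
      rw [inf_eq_left.2 (inf_le_left : A ⊓ cj x A ≤ A), inf_eq_left.2 (inf_le_left : A ⊓ cj y A ≤ A)] at e1
      exact e1
  refine h1.trans (Cfsg.Agent.H286.EPK.ncard_le_sylow h5 (fun X hX => hg X) ?_ ?_)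
  · rintro _ ⟨x, hx, rfl⟩ e
    apply h.M0 x hx
    rw [Subgroup.subgroupOf_eq_bot] at e
    exact e.eq_bot_of_le inf_le_left
  · rintro _ ⟨x, hx, rfl⟩ K hK hne b hb
    set E : (A ⊓ cj x A).subgroupOf A ≃* (A ⊓ cj x A : Subgroup Q) :=
      Subgroup.subgroupOfEquivOfLe (inf_le_left : A ⊓ cj x A ≤ A) with hE
    have hch := char_map E hK
    have hn := h.norm_char hx (K.map E.toMonoidHom) (hK := hch) (by
      intro e
      rw [Subgroup.map_eq_bot_iff_of_injective _ E.injective] at e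
      exact hne e) (a := (b : Q)) b.2 (by
      rintro _ ⟨_, ⟨k, hk, rfl⟩, rfl⟩
      obtain ⟨k', hk', e'⟩ := hb _ ⟨k, hk, rfl⟩
      refine ⟨_, ⟨k', hk', rfl⟩, ?_⟩
      have e2 := congrArg (Subtype.val) e'
      exact e2)
    exact ⟨b.2, hn⟩

end EPT

/-! ### evaluation -/

theorem sum_mul (F : ℕ → ℕ → ℕ) {p e m : ℕ} (hp : p.Prime) (he : 0 < e) (hm : m ≠ 0) (hpm : ¬ p ∣ m) :
    (∑ s ∈ (p ^ e * m).primeFactors, F s ((p ^ e * m).factorization s)) =
      F p e + ∑ s ∈ m.primeFactors, F s (m.factorization s) := by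
  have hpe : p ^ e ≠ 0 := pow_ne_zero _ hp.ne_zero
  have h1 : (p ^ e * m).primeFactors = insert p m.primeFactors := by
    rw [Nat.primeFactors_mul hpe hm, Nat.primeFactors_prime_pow he.ne' hp]
    rfl
  have h2 : p ∉ m.primeFactors := fun h => hpm (Nat.dvd_of_mem_primeFactors h)
  rw [h1, Finset.sum_insert h2]
  congr 1
  · congr 1
    rw [Nat.factorization_mul hpe hm, Finsupp.add_apply, hp.factorization_pow, Finsupp.single_eq_same,
      Nat.factorization_eq_zero_of_not_dvd hpm, add_zero]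
  · apply Finset.sum_congr rfl
    intro s hs
    congr 1
    have hsp : s ≠ p := by
      rintro rfl
      exact h2 hs
    rw [Nat.factorization_mul hpe hm, Finsupp.add_apply, hp.factorization_pow, Finsupp.single_eq_of_ne hsp,
      zero_add]

end Cfsg.Agent.H286.EPK
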