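import Cfsg.Agent.H742.EX.TwoAll
import Cfsg.Agent.H321.Orders
import Cfsg.Agent.H185.NR.Tw

/-!
# S5745, T = Sp6(2) (helper286): `T` is not on the lists `EvenList`, `FM`
-/

set_option autoImplicit false

namespace Cfsg.Agent.H286.EPK

open Cfsg.Agent.H742.EX Cfsg.Agent.H321.Orders Cfsg.Agent.OrdDiv

theorem psl_eq' {F : Type} [Field F] [Fintype F] {n : ℕ} (hn : 2 ≤ n) :
    (Nat.gcd n (Fintype.card F - 1) * (Fintype.card F - 1)) *
      Nat.card (Matrix.ProjectiveSpecialLinearGroup (Fin n) F) = glN n (Fintype.card F) := psl_eq hn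

/-- the order excludes `FM` -/
theorem not_FM {T : Type} [Group T] (hT : Nat.card T = 1451520) : ¬ FM T := by
  rintro ⟨F, _, _, n, h3, -, ⟨e⟩⟩
  have h1 := psl_eq' (F := F) (n := 2) le_rfl
  rw [← Nat.card_congr e.toEquiv, hT] at h1
  generalize Fintype.card F = q at *
  obtain ⟨a, rfl⟩ : ∃ a, q = a + 1 := ⟨q - 1, by omega⟩
  have h2 : glN 2 (a + 1) = a * ((a + 1) * (a + 2) * a) := by
    have e1 : (a + 1) ^ 2 - (a + 1) ^ 0 = a * (a + 2) := by
      have : (a + 1) ^ 2 = a * (a + 2) + 1 := by ring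
      rw [this, pow_zero, Nat.add_sub_cancel]
    have e2 : (a + 1) ^ 2 - (a + 1) ^ 1 = a * (a + 1) := by
      have : (a + 1) ^ 2 = a * (a + 1) + (a + 1) := by ring
      rw [this, pow_one, Nat.add_sub_cancel]
    show ([0, 1].map fun i => (a + 1) ^ 2 - (a + 1) ^ i).prod = _
    simp only [List.map_cons, List.map_nil, List.prod_cons, List.prod_nil, e1, e2]
    ring
  rw [h2, Nat.add_sub_cancel] at h1
  have ha : 0 < a := by omega
  have h4 : Nat.gcd 2 a * 1451520 = (a + 1) * (a + 2) * a := by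
    have : a * (Nat.gcd 2 a * 1451520) = a * ((a + 1) * (a + 2) * a) := by rw [← h1]; ring
    exact Nat.eq_of_mul_eq_mul_left ha this
  have h5 : Nat.gcd 2 a = 1 ∨ Nat.gcd 2 a = 2 := (Nat.dvd_prime Nat.prime_two).1 (Nat.gcd_dvd_left 2 a)
  have hlo : 112 ≤ a := by
    by_contra hcon
    have h6 : (a + 1) * (a + 2) * a ≤ 112 * 113 * 111 := by
      apply Nat.mul_le_mul (Nat.mul_le_mul _ _) <;> omega
    rcases h5 with h5 | h5 <;> rw [h5] at h4 <;> omega
  have hhi : a ≤ 142 := by
    by_contra hcon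
    have h6 : 144 * 145 * 143 ≤ (a + 1) * (a + 2) * a := by
      apply Nat.mul_le_mul (Nat.mul_le_mul _ _) <;> omega
    rcases h5 with h5 | h5 <;> rw [h5] at h4 <;> omega
  clear h1 h2 h5
  interval_cases a <;> revert h4 <;> decide

/-- the order excludes `EvenList` -/
theorem not_EvenList {T : Type} [Group T] (hT : Nat.card T = 1451520) : ¬ EvenList T := by
  have hnd : ¬ 2 ^ 10 ∣ 1451520 := by decide
  rintro (⟨F, _, _, n, hn, hF, h⟩ | h | ⟨F, _, _, n, hn, hF, ⟨e⟩⟩)
  · rcases h with ⟨⟨e⟩⟩ | ⟨⟨e⟩⟩ | ⟨⟨e⟩⟩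
    · have h1 := psl_eq' (F := F) (n := 2) le_rfl
      have h2 := psl_dvd (F := F) (n := 2) le_rfl
      rw [← Nat.card_congr e.toEquiv, hT, hF] at h1 h2
      have hn9 : n ≤ 9 := by
        by_contra hcon
        refine hnd (dvd_trans ?_ h2)
        rw [← pow_mul]
        exact pow_dvd_pow 2 (by omega)
      clear h2
      interval_cases n <;> revert h1 <;> decide
    · have h1 := psl_eq' (F := F) (n := 3) (by norm_num)
      have h2 := psl_dvd (F := F) (n := 3) (by norm_num)
      rw [← Nat.card_congr e.toEquiv, hT, hF] at h1 h2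
      have hn9 : n ≤ 3 := by
        by_contra hcon
        refine hnd (dvd_trans ?_ h2)
        rw [← pow_mul]
        exact pow_dvd_pow 2 (by omega)
      clear h2
      interval_cases n <;> revert h1 <;> decide
    · have h1 := psp_eq (F := F) (m := 2) (by norm_num)
      have h2 := psp_dvd (F := F) (m := 2) (by norm_num)
      rw [← Nat.card_congr e.toEquiv, hT, hF] at h1 h2
      have hn9 : n ≤ 2 := by
        by_contra hcon
        refine hnd (dvd_trans ?_ h2)
        rw [← pow_mul]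
        exact pow_dvd_pow 2 (by omega)
      clear h2
      interval_cases n <;> revert h1 <;> decide
  · apply Cfsg.Agent.H185.NR.not_three_sz h
    rw [hT]
    decide
  · have h1 := psu_eq (n := 3) hF (by norm_num)
    have h2 := psu_dvd (n := 3) hF (by norm_num)
    rw [← Nat.card_congr e.toEquiv, hT] at h1 h2
    have hn9 : n ≤ 3 := by
      by_contra hcon
      refine hnd (dvd_trans ?_ h2)
      rw [← pow_mul]
      exact pow_dvd_pow 2 (by omega)
    clear h2
    interval_cases n <;> revert h1 <;> decide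

end Cfsg.Agent.H286.EPK
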