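import Cfsg.Agent.H286.EPK.SpSixA
import Cfsg.Agent.H972.CS.F4Two
import Cfsg.Agent.H548.EPX.SpSix
import Cfsg.Agent.S1062

/-!
# S5745, T = Sp6(2) in F4(2) (helper286): the `E_π`-bound kills
-/

set_option autoImplicit false

namespace Cfsg.Agent.H286.EPK

open Subgroup Cfsg Cfsg.Agent.H284 Cfsg.Agent.H209.EPX Cfsg.Agent.H742.EX

universe u v w

theorem card_f4_two {K : Type v} [Field K] [Fintype K] (hK : Fintype.card K = 2) :
    Nat.card ↥(Lie.chevF4.group K) = 3311126603366400 := by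
  rw [Cfsg.Agent.S1062.result hK]
  norm_num

theorem orderOf_cent {G : Type u} [Group G] {L : Type v} [Group L] (g : G ≃* L) {r z : ℕ}
    (h : ∀ y : L, orderOf y = r → Nat.card (centralizer ({y} : Set L)) ≤ z) (x : G) (hx : orderOf x = r) :
    Nat.card (centralizer ({x} : Set G)) ≤ z := by
  have h1 : orderOf (g x) = r := by rw [MulEquiv.orderOf_eq, hx]
  refine le_trans (le_of_eq ?_) (h (g x) h1)
  refine Nat.card_congr (Equiv.subtypeEquiv g.toEquiv fun a => ?_)
  rw [mem_centralizer_singleton_iff, mem_centralizer_singleton_iff]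
  show _ ↔ g a * g x = g x * g a
  rw [← map_mul, ← map_mul]
  exact g.injective.eq_iff.symm

/-- **No `T = Sp₆(2)`, `k = 1` in `F₄(2)`.** -/
theorem six_f4 {K : Type v} [Field K] [Fintype K] (hK : Fintype.card K = 2) {G : Type u} [Group G]
    (g : G ≃* ↥(Lie.chevF4.group K)) {H N : Subgroup G} {T : Type} [Group T] {e : N ≃* (Fin 1 → T)}
    (h : EPS H N e) {F : Type w} [Field F] [Fintype F] (hF : Fintype.card F = 2) (t : T ≃* PSp 3 F) : False := by
  have hG : Nat.card G = 3311126603366400 := by rw [Nat.card_congr g.toEquiv, card_f4_two hK]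
  have : Finite G := Nat.finite_of_card_ne_zero (by rw [hG]; norm_num)
  have hT : Nat.card T = 1451520 := by
    obtain ⟨e'⟩ := Cfsg.Agent.StandardComponent.SpTwoAut.exists_equiv hF
    rw [Nat.card_congr (t.trans e').toEquiv]
    exact Cfsg.Agent.SporRec.TwoSp6.Sp.card_S
  obtain ⟨a⟩ := Cfsg.Agent.H548.EPX.SpSix.aut_equiv hF t
  have hA : Nat.card (MulAut T) = 1451520 := by rw [Nat.card_congr a.toEquiv, hT]
  have key := sp6_bound h hT hA (Cfsg.Agent.H548.EPX.SpSix.n3 hF t) (Cfsg.Agent.H548.EPX.SpSix.n5 hF t)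
    (Cfsg.Agent.H548.EPX.SpSix.n7 hF t)
    (orderOf_cent g fun y hy => Cfsg.Agent.H972.CS.F4Two.two_three hK hy)
    (orderOf_cent g fun y hy => Cfsg.Agent.H972.CS.F4Two.two_five hK hy)
    (orderOf_cent g fun y hy => Cfsg.Agent.H972.CS.F4Two.two_seven hK hy)
  rw [hG] at key
  exact absurd key (by norm_num)

end Cfsg.Agent.H286.EPK
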